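import Cfsg.Agent.TwoF.Gen.BCub
import Cfsg.Agent.TwoF.Gen.BLay
import Cfsg.Agent.TwoF.XE.Wt
import Cfsg.Agent.H212.SuzFive.ThreeNorm
import Cfsg.Agent.H807.El.Mathieu
import Cfsg.Agent.H960.Fix

/-!
# TwoF / Suz: the subgroup `3 ^ 5 : M₁₁` and some words (helper55)
-/

set_option autoImplicit false
set_option maxHeartbeats 400000
set_option maxRecDepth 100000

namespace Cfsg.Agent.TwoF.SpS.T3

open Cfsg Cfsg.Spor Subgroup Cfsg.Agent.TwoF.Gen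
open Cfsg.Agent.SporadicRecognition.SuzOrder Cfsg.Agent.SuzThree.Basic Cfsg.Agent.SuzThree.Elts
  Cfsg.Agent.SuzThree.Elementary Cfsg.Agent.SuzThree.NormElts Cfsg.Agent.SuzThree.NormAct
open Cfsg.Agent.SporadicRecognition.SuzPhi (wd)
open Cfsg.Agent.BpSpor.SuzThreeCentral (finSuz card_NA comm_of_three)

theorem fix_mod {G : Type*} [Group G] [Finite G] {r : ℕ} [Fact r.Prime] {y : G} (hy : y ^ r = 1) {N : Subgroup G}
    (hN : ∀ n ∈ N, y * n * y⁻¹ ∈ N) : Nat.card N ≡ Nat.card ↥(N ⊓ centralizer {y}) [MOD r] := by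
  let f : N → N := fun n => ⟨y * n * y⁻¹, hN n n.2⟩
  have h1 : ∀ k (n : N), (f^[k] n : G) = y ^ k * n * (y ^ k)⁻¹ := fun k n => by
    induction k with
    | zero => simp
    | succ k ih => rw [Function.iterate_succ_apply', show (f (f^[k] n) : G) = y * (f^[k] n : G) * y⁻¹ from rfl, ih]; group
  have h2 := H960.card_modEq_fixed f (r := r) (funext fun n => Subtype.ext (by rw [h1, hy]; simp))
  rwa [Nat.card_congr (α := {a : N // f a = a}) (β := ↥(N ⊓ centralizer {y})) ⟨fun a => ⟨a.1.1, a.1.2,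
      mem_centralizer_singleton_iff.2 (mul_inv_eq_iff_eq_mul.1 (congrArg Subtype.val a.2)).symm⟩,
      fun a => ⟨⟨a.1, a.2.1⟩, Subtype.ext (show y * a.1 * y⁻¹ = a.1 from
      mul_inv_eq_iff_eq_mul.2 (mem_centralizer_singleton_iff.1 a.2.2).symm)⟩, fun _ => rfl, fun _ => rfl⟩] at h2

theorem card_le_A0 {W : Subgroup Suz} (h : W ≤ A0) : ∃ i ≤ 5, Nat.card W = 3 ^ i :=
  (Nat.dvd_prime_pow Nat.prime_three).1 ((card_dvd_of_le h).trans (card_A0.trans (by norm_num)).dvd)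

theorem elemAb_A0 : IsElementaryAbelian 3 A0 := elemAb_of (fun _ ha _ hb => comm_A0 ha hb) fun _ => cube_A0

theorem conj_mem {n a : Suz} (hn : n ∈ NA) (ha : a ∈ A0) : n * a * n⁻¹ ∈ A0 := (mem_normalizer_iff.1 hn a).1 ha

theorem exists_ord {r : ℕ} (hr : r.Prime) (h : r ∣ 7920) (h3 : r ≠ 3) :
    ∃ y ∈ NA, y ^ r = 1 ∧ y ∉ A0 ∧ ∃ i < 5, Nat.card ↥(A0 ⊓ centralizer {y}) = 3 ^ i ∧ 243 ≡ 3 ^ i [MOD r] := by
  have := finSuz
  have := Fact.mk hr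
  obtain ⟨y, hy⟩ := exists_prime_orderOf_dvd_card' (G := NA) r (card_NA ▸ h.mul_left _)
  rw [← orderOf_coe] at hy
  have h1 : (y : Suz) ^ r = 1 := hy ▸ pow_orderOf_eq_one _
  have h2 : (y : Suz) ∉ A0 := fun e =>
    h3 ((Nat.prime_dvd_prime_iff_eq hr Nat.prime_three).1 (hy ▸ orderOf_dvd_of_pow_eq_one (cube_A0 e)))
  obtain ⟨i, hi, h4⟩ := card_le_A0 (inf_le_left (a := A0) (b := centralizer {(y : Suz)}))
  refine ⟨y, y.2, h1, h2, i, hi.lt_of_ne ?_, h4, h4 ▸ card_A0 ▸ fix_mod h1 fun a => conj_mem y.2⟩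
  rintro rfl
  have h5 := eq_of_le_of_card_ge (inf_le_left (a := A0) (b := centralizer {(y : Suz)})) (by rw [h4, card_A0]; norm_num)
  exact h2 (SuzThree.Kernel.mem_of_centralizes fun v =>
    (mem_centralizer_singleton_iff.1 (h5.ge (E_mem v)).2).symm)

theorem exists_eleven : ∃ y ∈ NA, y ^ 11 = 1 ∧ y ∉ A0 ∧ A0 ⊓ centralizer {y} = ⊥ := by
  obtain ⟨y, h1, h2, h3, i, hi, h4, h5⟩ := exists_ord (r := 11) (by norm_num) (by norm_num) (by norm_num)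
  have := finSuz
  obtain rfl : i = 0 := by
    revert h5
    interval_cases i <;> decide
  exact ⟨y, h1, h2, h3, card_eq_one.1 h4⟩

theorem exists_five : ∃ y ∈ NA, Nat.card ↥(A0 ⊓ centralizer {y}) = 3 := by
  obtain ⟨y, h1, -, -, i, hi, h4, h5⟩ := exists_ord (r := 5) (by norm_num) (by norm_num) (by norm_num)
  obtain rfl : i = 1 := by
    revert h5
    interval_cases i <;> decide
  exact ⟨y, h1, h4⟩

theorem irr : IrrOn A0 NA := by
  intro W h1 h2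
  have := finSuz
  have := Fact.mk (show Nat.Prime 11 by norm_num)
  obtain ⟨y, h3, h4, -, h5⟩ := exists_eleven
  have h6 := fix_mod h4 (h2 y h3)
  rw [show W ⊓ centralizer {y} = ⊥ from eq_bot_iff.2 (h5 ▸ inf_le_inf_right _ h1), card_bot] at h6
  obtain ⟨i, hi, h7⟩ := card_le_A0 h1
  rw [h7] at h6
  obtain rfl | rfl : i = 0 ∨ i = 5 := by
    revert h6
    interval_cases i <;> decide
  · exact Or.inl (card_eq_one.1 h7)
  · exact Or.inr (eq_of_le_of_card_ge h1 (by rw [h7, card_A0]; norm_num))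

theorem gen {y : Suz} (h1 : y ∉ A0) (H : Subgroup Suz) (h2 : y ∈ H) (h3 : H ≤ NA)
    (h4 : ∀ n ∈ NA, ∀ h ∈ H, n * h * n⁻¹ ∈ H) : H = NA := by
  have h5 : A0 ≤ H := by
    refine inf_eq_left.1 ((irr _ inf_le_left fun n hn a ha => ⟨conj_mem hn ha.1, h4 n hn a ha.2⟩).resolve_left fun e => ?_)
    refine h1 (SuzThree.Kernel.mem_of_centralizes fun v => ?_)
    have h6 : y * E v * y⁻¹ * (E v)⁻¹ ∈ A0 ⊓ H := mem_inf.2 ⟨mul_mem (conj_mem (h3 h2) (E_mem v)) (inv_mem (E_mem v)), by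
      have := mul_mem h2 (h4 _ (le_normalizer (E_mem v)) _ (inv_mem h2))
      simpa only [mul_assoc] using this⟩
    rw [e, mem_bot, mul_inv_eq_one, mul_inv_eq_iff_eq_mul] at h6
    exact h6
  obtain ⟨e⟩ := isoM11
  have := H807.El.simple_M11
  have := e.isSimpleGroup
  have hn : (H.subgroupOf NA).Normal := ⟨fun h hh n => h4 n n.2 h hh⟩
  rcases (hn.map _ (QuotientGroup.mk'_surjective (A0.subgroupOf NA))).eq_bot_or_eq_top with h6 | h6
  · exact absurd ((QuotientGroup.eq_one_iff (⟨y, h3 h2⟩ : NA)).1 (h6.le ⟨_, h2, rfl⟩)) h1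
  · refine le_antisymm h3 fun n hn => ?_
    obtain ⟨h, hh, h7⟩ := h6.ge (mem_top (QuotientGroup.mk' _ (⟨n, hn⟩ : NA)))
    simpa using mul_mem (show (h : Suz) ∈ H from hh) (h5 (mem_subgroupOf.1
      (QuotientGroup.eq.1 (show (h : NA ⧸ A0.subgroupOf NA) = (⟨n, hn⟩ : NA) from h7))))

/-- `b` has order dividing three and fixes the first two special subgroups -/
def Good (b : Suz) : Prop := b ∈ SuzThree.SylowThree.K ∧ b ^ 3 = 1

theorem Good.mem {b : Suz} (h : Good b) : b ∈ NA := (SuzThree.SylowThree.mem_K.1 h.1).1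

theorem Good.card {b : Suz} (h : Good b) (hb : b ∉ A0) : Nat.card ↥(A0 ⊓ centralizer {b}) ≤ 9 := by
  obtain ⟨h1, h2⟩ := SuzThree.SylowThree.mem_K.1 h.1
  obtain ⟨h3, h4⟩ := SuzThree.SylowThree.mem_S.1 h2
  have h5 := H212.SuzFive.card_fix' (b := ⟨b, h1⟩) h.2 h3 h4 hb
  obtain ⟨i, hi, h6⟩ := card_le_A0 (inf_le_left (a := A0) (b := centralizer {b}))
  rw [h6] at h5 ⊢
  interval_cases i <;> omega

theorem Good.le {b : Suz} (h : Good b) : zpowers (x .i0) ⊔ zpowers (x .i1) ≤ A0 ⊓ centralizer {b} := by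
  obtain ⟨h1, h2⟩ := SuzThree.SylowThree.mem_K.1 h.1
  obtain ⟨h3, h4⟩ := SuzThree.SylowThree.mem_S.1 h2
  have h5 : ∀ f, (⟨b, h1⟩ : NA) • f = f → zpowers (x f) ≤ A0 ⊓ centralizer {b} := fun f hf =>
    zpowers_le.2 ⟨x_mem f, mem_centralizer_singleton_iff.2
      (comm_of_three (k := 1) (by simpa only [hf] using smul_spec ⟨b, h1⟩ f) h.2).symm⟩
  exact sup_le (h5 _ h3) (h5 _ h4)

theorem Good.eq {b : Suz} (h : Good b) (hb : b ∉ A0) : zpowers (x .i0) ⊔ zpowers (x .i1) = A0 ⊓ centralizer {b} := by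
  have := finSuz
  refine eq_of_le_of_card_ge h.le ((h.card hb).trans ?_)
  obtain ⟨i, hi, h1⟩ := card_le_A0 (h.le.trans inf_le_left)
  have h2 : ¬ Nat.card ↥(zpowers (x .i0) ⊔ zpowers (x .i1)) ≤ Nat.card (zpowers (x .i0)) := fun e =>
    absurd (SuzThree.Kernel.x_inj_zpowers ((eq_of_le_of_card_ge le_sup_left e).ge (mem_sup_right (mem_zpowers _))))
      (by decide)
  rw [Nat.card_zpowers, orderOf_x] at h2
  rw [h1] at h2 ⊢
  interval_cases i <;> omega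

theorem Good.big {b : Suz} (h : Good b) (hb : b ∉ A0) {W : Subgroup Suz} (hW : W ≤ A0)
    (h1 : ∀ j ∈ A0, b * j * b⁻¹ * j⁻¹ ∈ W) : 27 ≤ Nat.card W := by
  have := finSuz
  have h2 := relIndex_le_card (A := A0) (D := centralizer {b}) (fun j => (⟨_, h1 j j.2⟩ : W)) fun i j e => by
    have h3 : b * i * b⁻¹ * (i : Suz)⁻¹ = b * j * b⁻¹ * (j : Suz)⁻¹ := congrArg Subtype.val e
    rw [mem_centralizer_singleton_iff]
    calc (i : Suz)⁻¹ * j * b = (i : Suz)⁻¹ * (b * j * b⁻¹ * (j : Suz)⁻¹)⁻¹ * b * j := by group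
      _ = _ := by rw [← h3]; group
  have h3 := relIndex_mul_relIndex ⊥ (centralizer {b} ⊓ A0) A0 bot_le inf_le_right
  rw [relIndex_bot_left, relIndex_bot_left, inf_relIndex_right, card_A0, inf_comm] at h3
  have h4 := h.card hb
  obtain ⟨i, hi, h5⟩ := card_le_A0 hW
  rw [h5] at h2 ⊢
  have h6 := h3.ge.trans (Nat.mul_le_mul h4 h2)
  interval_cases i <;> omega

/-- rank four -/
theorem big4 {B W : Subgroup Suz} (hB : IsElementaryAbelian 3 B) (hK : B ≤ SuzThree.SylowThree.K)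
    (h9 : Nat.card ↥(B ⊓ A0) = 9) (h3 : 3 < A0.relIndex B) (hW : W ≤ A0) (hD : B ⊓ A0 ≤ W)
    (h1 : ∀ a ∈ B, ∀ j ∈ A0, a * j * a⁻¹ * j⁻¹ ∈ W) : 81 ≤ Nat.card W := by
  have := finSuz
  have hG : ∀ a ∈ B, Good a := fun a ha => ⟨hK ha, hB.2 a ha⟩
  obtain ⟨i, hi, h5⟩ := card_le_A0 hW
  by_contra hc
  have h6 := relIndex_mul_relIndex ⊥ (B ⊓ A0) W bot_le hD
  rw [relIndex_bot_left, relIndex_bot_left, h9, h5] at h6
  have h7 : (B ⊓ A0).relIndex W ≤ 3 := by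
    rw [h5] at hc
    interval_cases i <;> omega
  have h8 : ∀ j ∈ A0, ∀ a ∈ B, a * j * a⁻¹ * j⁻¹ ∈ B ⊓ A0 := fun j hj a ha => by
    by_contra h2
    refine absurd ((relIndex_le_card (A := B) (D := A0) (M := W ⧸ (B ⊓ A0).subgroupOf W)
      (fun a => QuotientGroup.mk ⟨_, h1 a a.2 j hj⟩) fun a₁ a₂ e => by_contra fun hb => h2 ?_).trans h7) h3.not_ge
    have hd : (a₁ * j * (a₁ : Suz)⁻¹ * j⁻¹)⁻¹ * (a₂ * j * (a₂ : Suz)⁻¹ * j⁻¹) ∈ B ⊓ A0 :=
      mem_subgroupOf.1 (QuotientGroup.eq.1 e)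
    have hb' := mul_mem (inv_mem a₁.2) a₂.2
    have k1 : (a₁ : Suz)⁻¹ * a₂ * j * ((a₁ : Suz)⁻¹ * a₂)⁻¹ =
        (a₁ * j * (a₁ : Suz)⁻¹ * j⁻¹)⁻¹ * (a₂ * j * (a₂ : Suz)⁻¹ * j⁻¹) * j := by
      generalize hd' : (a₁ * j * (a₁ : Suz)⁻¹ * j⁻¹)⁻¹ * (a₂ * j * (a₂ : Suz)⁻¹ * j⁻¹) = d at hd
      calc _ = j * (a₁ : Suz)⁻¹ * j⁻¹ * (d * j) * a₁ := by rw [← hd']; group
        _ = j * (a₁ : Suz)⁻¹ * (d * a₁) := by rw [comm_A0 hd.2 hj]; group
        _ = _ := by rw [elemAb_comm hB hd.1 a₁.2, comm_A0 hd.2 hj]; group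
    generalize (a₁ * j * (a₁ : Suz)⁻¹ * j⁻¹)⁻¹ * (a₂ * j * (a₂ : Suz)⁻¹ * j⁻¹) = d at hd k1
    generalize (a₁ : Suz)⁻¹ * a₂ = b at hb hb' k1
    have k2 : B ⊓ A0 = A0 ⊓ centralizer {b} := eq_of_le_of_card_ge
      (fun c hc => ⟨hc.2, mem_centralizer_singleton_iff.2 (elemAb_comm hB hc.1 hb')⟩) (h9 ▸ (hG b hb').card hb)
    have k3 := hW (h1 a ha j hj)
    refine k2.ge ⟨k3, mem_centralizer_singleton_iff.2 (mul_inv_eq_iff_eq_mul.1 ?_).symm⟩
    calc b * (a * j * a⁻¹ * j⁻¹) * b⁻¹ = b * a * j * (b * a)⁻¹ * (b * j * b⁻¹)⁻¹ := by group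
      _ = a * d * a⁻¹ * (a * j * a⁻¹ * j⁻¹ * d⁻¹) := by
        rw [elemAb_comm hB hb' ha, show a * b * j * (a * b)⁻¹ = a * (b * j * b⁻¹) * a⁻¹ by group, k1]; group
      _ = _ := by rw [elemAb_comm hB ha hd.1, comm_A0 k3 (inv_mem hd.2)]; group
  obtain ⟨b, h2, hb⟩ := SetLike.not_le_iff_exists.1 fun e : B ≤ A0 => by
    rw [relIndex_eq_one.2 e] at h3
    omega
  have := (hG b h2).big hb inf_le_right fun j hj => h8 j hj b h2
  omega

theorem sylow : ∃ P : Sylow 3 Suz, (P : Subgroup Suz) ≤ SuzThree.SylowThree.K ∧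
    ∀ B ≤ (P : Subgroup Suz), A0.relIndex B ≤ 9 := by
  have := finSuz
  have := Fact.mk Nat.prime_three
  obtain ⟨P, h1, h2⟩ := H212.SuzFive.exists_sylow
  have h3 := relIndex_mul_relIndex ⊥ A0 P bot_le h1
  rw [relIndex_bot_left, relIndex_bot_left, card_A0, P.card_eq_multiplicity, H212.SuzFive.fac_three] at h3
  exact ⟨P, h2, fun B hB => (relIndex_le_of_le_right hB (by omega)).trans (by omega)⟩

theorem A0_le' {H : Subgroup Suz} (h0 : x .i0 ∈ H) (h1 : x .i1 ∈ H) (h2 : x .i2 ∈ H) (h3 : x .i3 ∈ H)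
    (h4 : x .i4 ∈ H) : A0 ≤ H := by
  intro a ha
  obtain ⟨v, rfl⟩ := mem_A0.1 ha
  exact mul_mem (pow_mem h0 _) (mul_mem (pow_mem h1 _) (mul_mem (pow_mem h2 _) (mul_mem (pow_mem h3 _) (pow_mem h4 _))))

theorem exists_pair {f : Ix} (h : f = .i2 ∨ f = .i3 ∨ f = .i4) : ∃ n ∈ NA, Sp n .i0 .i0 ∧ Sp n .i1 f := by
  obtain ⟨n, h1, h2, -⟩ := exists_npr .i0 f .i1 .i5 (by rcases h with rfl | rfl | rfl <;> decide)
  exact ⟨n, n.2, by simpa only [h1] using smul_spec n .i0, by simpa only [h2] using smul_spec n .i1⟩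

/-! ### words -/

theorem rep_cj (c : List Suz.Gen) {g : Suz} {w : List Lib.PermNet.Net} (h : Rep g w) :
    Rep (el c * g * (el c)⁻¹) (wd c ++ w ++ wd c.reverse) :=
  el_reverse c ▸ ((Rep.el c).mul h).mul (Rep.el _)

theorem cube_of {c : List Suz.Gen} {t : Suz} {w : List Lib.PermNet.Net} (h : Rep t w)
    (e : t5 ((wd c ++ wd [.d] ++ wd c.reverse ++ w) ++ ((wd c ++ wd [.d] ++ wd c.reverse ++ w) ++
      (wd c ++ wd [.d] ++ wd c.reverse ++ w))) = true) : ∃ c : Suz, (c * el [.d] * c⁻¹ * t) ^ 3 = 1 := by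
  have h1 := (rep_cj c (Rep.el [.d])).mul h
  exact ⟨el c, (pow_three _).trans (eq_one_of_t5 (h1.mul (h1.mul h1)) e)⟩

theorem w_0 : ∃ c : Suz, (c * el [.d] * c⁻¹ * x .i0) ^ 3 = 1 := cube_of (c := [.e]) (rep_x _) (by decide +kernel)

theorem w_1 : ∃ c : Suz, (c * el [.d] * c⁻¹ * x .i1) ^ 3 = 1 :=
  cube_of (c := uw .i1 ++ [.e]) (rep_x _) (by decide +kernel)

theorem w_2 : ∃ c : Suz, (c * el [.d] * c⁻¹ * (x .i0 * x .i1)) ^ 3 = 1 :=
  cube_of (c := [.e, .d, .c, .d, .e, .a, .b, .c]) ((rep_x _).mul (rep_x _)) (by decide +kernel)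

theorem w_3 : ∃ c : Suz, (c * el [.d] * c⁻¹ * (x .i0 * (x .i1 * x .i1))) ^ 3 = 1 :=
  cube_of (c := [.e, .d, .b, .c, .d, .e, .b, .a, .b, .c]) ((rep_x _).mul ((rep_x _).mul (rep_x _))) (by decide +kernel)

theorem rep_pw {g : Suz} {w : List Lib.PermNet.Net} (h : Rep g w) (n : ℕ) :
    Rep (g ^ n) (List.replicate n w).flatten := by
  induction n with
  | zero => exact pow_zero g ▸ Rep.one
  | succ n ih => exact pow_succ' g n ▸ h.mul ih

theorem ne_one {g : Suz} {w : List Lib.PermNet.Net} (h : Rep g w) {p q : ℕ} (e : mv w p q = true) (hp : p ≠ q) :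
    g ≠ 1 := by
  rintro rfl
  exact hp (by simpa using h.pt e)

theorem w_11 : ∃ c : Suz, orderOf (c * el [.d] * c⁻¹ * el [.d]) = 11 := by
  have := Fact.mk (show Nat.Prime 11 by norm_num)
  have h := (rep_cj [.c, .b, .g, .f, .d, .e, .c, .d, .b, .c] (Rep.el [.d])).mul (Rep.el [.d])
  exact ⟨_, orderOf_eq_prime (eq_one_of_t5 (rep_pw h 11) (by decide +kernel))
    (ne_one h (p := 0) (q := 1577) (by decide +kernel) (by decide))⟩

/-- an element of order three that normalizes a Sylow 5-subgroup -/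
def yw : List Suz.Gen := [.c, .d, .c, .d, .e, .d, .c, .b, .d, .c, .d, .a, .b, .c, .d, .e, .c, .d, .c, .d]

theorem w_25 : ∃ f g y : Suz, f ≠ 1 ∧ f ^ 5 = 1 ∧ y * f * y⁻¹ = g ∧ f * g = g * f ∧ y * g * y⁻¹ * (f * g) = 1 := by
  have hf := Rep.el [.a, .b]
  have hg := rep_cj yw hf
  exact ⟨_, _, el yw, ne_one hf (p := 1) (q := 3) (by decide +kernel) (by decide),
    eq_one_of_t5 (rep_pw hf 5) (by decide +kernel), rfl, eq_of_reps (hf.mul hg) (hg.mul hf) (by decide +kernel),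
    eq_one_of_t5 ((rep_cj yw hg).mul (hf.mul hg)) (by decide +kernel)⟩

end Cfsg.Agent.TwoF.SpS.T3
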