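import Cfsg.Agent.TwoF.SpE.T2
import Cfsg.Agent.TwoF.SpC.Odd

/-!
# TwoF / Suz: two lower bounds in characteristic three (helper55)
-/

set_option autoImplicit false
set_option maxHeartbeats 400000

namespace Cfsg.Agent.TwoF.SpS.T3

open Cfsg Subgroup Module Cfsg.Agent.TwoF.Gen Cfsg.Agent.TwoF.SpD Cfsg.Agent.TwoF.SpE

/-- an element that acts on `5 ^ 2` with minimal polynomial `X ^ 2 + X + 1` -/
structure T25 {G : Type*} [Group G] (f g y : G) : Prop where
  ne : f ≠ 1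
  f5 : f ^ 5 = 1
  yf : y * f * y⁻¹ = g
  fg : f * g = g * f
  yg : y * g * y⁻¹ * (f * g) = 1

namespace T25

variable {G : Type*} [Group G] {f g y : G} (h : T25 f g y)
include h

theorem g5 : g ^ 5 = 1 := by rw [← h.yf, conj_pow, h.f5, mul_one, mul_inv_cancel]

theorem pw (i j k : ℕ) : (f ^ i * g ^ j) ^ k = f ^ (i * k) * g ^ (j * k) := by
  rw [((show Commute f g from h.fg).pow_pow i j).mul_pow, pow_mul, pow_mul]

theorem ml (i j k l : ℕ) : f ^ i * g ^ j * (f ^ k * g ^ l) = f ^ (i + k) * g ^ (j + l) := by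
  rw [mul_assoc, ← mul_assoc (g ^ j), ← ((show Commute f g from h.fg).pow_pow k j).eq, pow_add, pow_add]
  group

theorem md {i j k l : ℕ} (h1 : i % 5 = k % 5) (h2 : j % 5 = l % 5) : f ^ i * g ^ j = f ^ k * g ^ l := by
  rw [pow_eq_pow_mod i h.f5, pow_eq_pow_mod j h.g5, h1, h2, ← pow_eq_pow_mod k h.f5, ← pow_eq_pow_mod l h.g5]

theorem yg' : y * g * y⁻¹ = f ^ 4 * g ^ 4 := by
  have h1 := h.ml 4 4 1 1
  rw [pow_one, pow_one, h.f5, h.g5, mul_one] at h1
  exact mul_right_cancel (h.yg.trans h1.symm)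

theorem cj (i j : ℕ) : y * (f ^ i * g ^ j) * y⁻¹ = f ^ (4 * j) * g ^ (i + 4 * j) := by
  have h1 := h.ml 0 i (4 * j) (4 * j)
  rw [pow_zero, one_mul, zero_add, ← h.pw, ← h.yg', conj_pow] at h1
  rw [← h1, show g ^ i = y * f ^ i * y⁻¹ by rw [← h.yf, conj_pow]]
  group

theorem indep {a b : ℕ} (e : f ^ a * g ^ b = 1) : 5 ∣ a * (a + 4 * b) + 4 * b * (4 * b) := by
  have := Fact.mk Nat.prime_five
  have h1 := h.cj a b
  have h2 := h.ml (a * (a + 4 * b)) (b * (a + 4 * b)) (4 * b * (4 * b)) ((a + 4 * b) * (4 * b))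
  rw [← h.pw, ← h.pw, ← h1, e, mul_one, mul_inv_cancel, one_pow, one_pow, one_mul,
    show b * (a + 4 * b) + (a + 4 * b) * (4 * b) = 5 * (b * (a + 4 * b)) by ring, pow_mul g, h.g5, one_pow, mul_one] at h2
  exact orderOf_eq_prime h.f5 h.ne ▸ orderOf_dvd_of_pow_eq_one h2.symm

theorem fpf (i : ℕ) (hi : i < 5) (j : ℕ) (hj : j < 5) (k : ℕ) (hk : k < 5)
    (e : y * (f ^ i * g ^ j) = (f ^ i * g ^ j) ^ k * y) : i = 0 ∧ j = 0 := by
  have h1 := h.ml (4 * j) (i + 4 * j) (i * k * 4) (j * k * 4)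
  rw [← h.cj, e, mul_inv_cancel_right, ← h.pw, ← h.pw, ← pow_succ', h.pw, h.pw,
    h.md (k := 0) (l := 0) (Nat.mul_mod_left _ _) (Nat.mul_mod_left _ _), pow_zero, pow_zero, mul_one] at h1
  exact (by decide +kernel : ∀ i < 5, ∀ j < 5, ∀ k < 5, 5 ∣ (4 * j + i * k * 4) * (4 * j + i * k * 4 + 4 *
    (i + 4 * j + j * k * 4)) + 4 * (i + 4 * j + j * k * 4) * (4 * (i + 4 * j + j * k * 4)) → i = 0 ∧ j = 0)
    i hi j hj k hk (h.indep h1.symm)

theorem lift {K : Type*} [Group K] {π : K →* G} {m : ℕ} (hs : Function.Surjective π) (hk : π.ker ≤ center K)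
    (hm : Nat.card π.ker ∣ m) (hr : Nat.Coprime 5 m) : ∃ f g y : K, T25 f g y := by
  obtain ⟨a, rfl, ha⟩ := lift_exists hs hm hr h.f5
  obtain ⟨c, rfl⟩ := hs y
  have h1 : π (c * a * c⁻¹) = g := by rw [map_mul, map_mul, map_inv, h.yf]
  have h2 : (c * a * c⁻¹) ^ 5 = 1 := by rw [conj_pow, ha, mul_one, mul_inv_cancel]
  have h3 := comm_of_coprime hk (h1 ▸ h.fg) h.f5 (hr.coprime_dvd_right hm)
  refine ⟨a, _, c, fun e => h.ne (by rw [e, map_one]), ha, rfl, h3, mul_eq_one_iff_eq_inv.2 (lift_unique hk hm hr ?_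
    (by rw [conj_pow, h2, mul_one, mul_inv_cancel])
    (by rw [inv_pow, (show Commute a _ from h3).mul_pow, ha, h2, mul_one, inv_one]))⟩
  rw [map_inv, map_mul π a, map_mul π _ c⁻¹, map_mul π c, map_inv, h1]
  exact mul_eq_one_iff_eq_inv.1 h.yg

theorem dim [Finite G] {V : Type*} [AddCommGroup V] [Module (ZMod 3) V] [Finite V] {ρ : Representation (ZMod 3) G V}
    (hf : Function.Injective ρ) : 12 ≤ finrank (ZMod 3) V := by
  have := Fact.mk Nat.prime_five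
  have hR := SpC.elemAb_two h.fg.symm h.g5 h.f5
  have s := sum_cod_rank_two (ρ := ρ) h.fg Nat.prime_five (by decide) h.f5 h.g5
  have e : ∀ i j l k m, 4 * j % 5 = 1 * k % 5 → (i + 4 * j) % 5 = l * k % 5 → k * m % 5 = 1 →
      cod ρ (zpowers (f ^ i * g ^ j)) = cod ρ (zpowers (f * g ^ l)) := fun i j l k m h1 h2 h3 => by
    rw [← cod_zpowers_conj y, h.cj, h.md h1 h2, ← h.pw, pow_one, SpC.cod_pow_eq (n := 5) (hR.2 _
      (mul_mem (mem_sup_right (mem_zpowers f)) (pow_mem (mem_sup_left (mem_zpowers g)) l))) h3]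
  have e1 := cod_zpowers_conj (ρ := ρ) y f
  have e2 := e 0 1 1 4 4 rfl rfl rfl
  have e3 := e 1 2 3 3 2 rfl rfl rfl
  have e4 := e 1 3 4 2 3 rfl rfl rfl
  rw [h.yf] at e1
  simp only [Finset.sum_range_succ, Finset.sum_range_zero, pow_zero, pow_one, mul_one, one_mul] at s e2 e3 e4
  have h6 : _ % 5 = 1 := pow_cod_modEq (ρ := ρ) (s := 5) (by rw [Nat.card_zmod]; decide) (elemAb_isPGroup hR)
  have h8 := cod_pos hf (B := zpowers g ⊔ zpowers f) fun e => h.ne (e.le (mem_sup_right (mem_zpowers f)))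
  have h9 := cod_le_finrank (ρ := ρ) (zpowers g ⊔ zpowers f)
  generalize cod ρ (zpowers g ⊔ zpowers f) = c at *
  rw [Nat.card_zmod, ← Nat.div_add_mod c 4, pow_add, pow_mul, Nat.mul_mod, Nat.pow_mod] at h6
  have h7 : c % 4 = 0 := (by decide : ∀ d < 4, 3 ^ d % 5 = 1 → d = 0) _ (Nat.mod_lt _ (by decide)) (by simpa using h6)
  omega

end T25

variable {K S : Type} [Group K] [Finite K] [Group S] {V : Type} [AddCommGroup V] [Module (ZMod 3) V] [Finite V]

/-- a cover with kernel of order at most two; the kernel acts without fixed vectors -/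
structure St (π : K →* S) (σ : Representation (ZMod 3) K V) : Prop where
  surj : Function.Surjective π
  ker : π.ker ≤ center K
  card : Nat.card π.ker ∣ 2
  inj : Function.Injective σ
  neg : ∀ z, π z = 1 → z ≠ 1 → fx σ (zpowers z) = ⊥

/-- the preimage of order three of `t` has codimension at least six -/
def Six (π : K →* S) (σ : Representation (ZMod 3) K V) (t : S) : Prop :=
  ∀ x, π x = t → x ^ 3 = 1 → 6 ≤ cod σ (zpowers x)

variable {π : K →* S} {σ : Representation (ZMod 3) K V} {t u : S}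

omit [Finite K] in
theorem Six.sq (h : Six π σ t) (ht : t ^ 3 = 1) : Six π σ (t ^ 2) := fun x h1 h2 =>
  (h (x ^ 2) (by rw [map_pow, h1, ← pow_mul, pow_succ, ht, one_mul])
    (by rw [← pow_mul, mul_comm, pow_mul, h2, one_pow])).trans (SpO.cod_pow_le x 2)

theorem a4_rel {G : Type*} [Group G] {x v : G} (hx : x ^ 3 = 1) (hv : v * v = 1) (h : (v * x) ^ 3 = 1) :
    v * (x * v * x⁻¹) = x * v * x⁻¹ * v ∧ x * (x * v * x⁻¹) * x⁻¹ = v * (x * v * x⁻¹) := by
  have h1 : v⁻¹ = v := inv_eq_of_mul_eq_one_left hv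
  have h2 : x * (x * v * x⁻¹) * x⁻¹ = (v * (x * v * x⁻¹))⁻¹ := eq_inv_of_mul_eq_one_right (by
    rw [← h, ← mul_one (_ * (x * _ * _)), ← hx, pow_three, pow_three]; group)
  have h3 : (x * (x * v * x⁻¹) * x⁻¹)⁻¹ = x * (x * v * x⁻¹) * x⁻¹ := by
    simp only [mul_inv_rev, inv_inv, h1, mul_assoc]
  have h4 : x * (x * v * x⁻¹) * x⁻¹ = v * (x * v * x⁻¹) := by rw [← h3, h2, inv_inv]
  exact ⟨by rw [← h4, h2, show (v * (x * v * x⁻¹))⁻¹ = x * v⁻¹ * x⁻¹ * v⁻¹ by group, h1], h4⟩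

/-- an element of order three of a subgroup `A₄` -/
theorem St.six (H : St π σ) (hd : 11 ≤ finrank (ZMod 3) V) (ht : t ^ 3 = 1) (hu : u * u = 1)
    (h : (u * t) ^ 3 = 1) (h5 : EB 3 2 u 5) : Six π σ t := by
  intro x hx h3
  obtain ⟨s, h1, h2⟩ := lift_exists H.surj H.card (by decide : Nat.Coprime 3 2) h
  obtain ⟨v, rfl⟩ : ∃ v, s = v * x := ⟨s * x⁻¹, (inv_mul_cancel_right _ _).symm⟩
  have hv : π v = u := by rwa [map_mul, hx, mul_left_inj] at h1
  have h4 : cod σ (zpowers x) = cod σ (zpowers (v * x)) := cod_conj' (lift_conj H.surj H.ker H.card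
    (by decide : Nat.Coprime 3 2) (by
      obtain ⟨k1, k2⟩ := a4_rel ht hu h
      have k3 : u⁻¹ = u := inv_eq_of_mul_eq_one_left hu
      rw [h1, hx]
      refine isConj_iff.2 ⟨t * u * t⁻¹, ?_⟩
      calc _ = t * u * t⁻¹ * (t * (t * u⁻¹ * t⁻¹) * t⁻¹) * t := by group
        _ = u * (t * (u * u) * t⁻¹) * t := by rw [k3, k2, ← mul_assoc _ u, ← k1]; group
        _ = _ := by rw [hu]; group) h3 h2)
  by_cases e : v * v = 1
  · obtain ⟨k1, k2⟩ := a4_rel h3 e h2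
    have k3 : v ^ 2 = 1 := by rw [pow_two, e]
    have k4 : (x * v * x⁻¹) ^ 2 = 1 := by rw [conj_pow, k3, mul_one, mul_inv_cancel]
    have k5 := SpC.cop2 (ρ := σ) Nat.prime_two (by decide) k1 k3 k4 h3 (mem_sup_right (mem_zpowers _))
      (k2 ▸ mul_mem (mem_sup_left (mem_zpowers _)) (mem_sup_right (mem_zpowers _))) fun C j1 j2 => by
        rw [k2, mul_inv_cancel_right] at j2
        exact ⟨j2, by simpa using mul_mem j1 j2⟩
    have k6 := sum_cod_rank_two (ρ := σ) k1.symm Nat.prime_two (by decide) k4 k3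
    simp only [Finset.sum_range_succ, Finset.sum_range_zero, pow_zero, pow_one, mul_one] at k6
    rw [← k1, ← k2, cod_zpowers_conj x (x * v * x⁻¹), cod_zpowers_conj] at k6
    have k7 := h5 K π H.surj H.ker H.card V σ H.inj v hv
    omega
  · have k1 := cod_of_fx_eq_bot (H.neg _ (by rw [map_mul, hv, hu]) e)
    have k2 := SpO.cod_pow_le (ρ := σ) v 2
    have k3 := cod_zpowers_mul_le (ρ := σ) (v * x) x⁻¹
    rw [mul_inv_cancel_right, zpowers_inv] at k3
    rw [pow_two] at k2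
    omega

theorem eb_five {c : S} (hu : u * u = 1) (h : orderOf (c * u * c⁻¹ * u) = 11) [Finite S] :
    EB 3 2 u 5 := by
  have h1 : IsConj (c * u * c⁻¹ * u) ((c * u * c⁻¹ * u) ^ 10) := isConj_iff.2 ⟨u, by
    have h2 := pow_orderOf_eq_one (c * u * c⁻¹ * u)
    rw [h, pow_succ] at h2
    rw [eq_inv_of_mul_eq_one_left h2, show (c * u * c⁻¹ * u)⁻¹ = u⁻¹ * c * u⁻¹ * c⁻¹ by group,
      inv_eq_of_mul_eq_one_left hu]
    rw [mul_assoc, mul_assoc _ u u, hu]; group⟩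
  refine EB.prod (a := c) (l := 1) (n := (Finset.univ.erase (0 : ZMod 11)).card) ?_ (by decide)
  rw [pow_one]
  refine eb_rat (by norm_num) (by norm_num) (by norm_num) h _ fun j hj => ?_
  obtain ⟨l, -, e | e⟩ : ∃ l < 5, j = ((1 * 3 ^ l : ℕ) : ZMod 11) ∨ j = ((10 * 3 ^ l : ℕ) : ZMod 11) := by
    revert j
    decide
  exacts [⟨1, l, by rw [pow_one], e⟩, ⟨10, l, h1, e⟩]

end Cfsg.Agent.TwoF.SpS.T3
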