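import Cfsg.Agent.TwoF.SpS.Grp3
import Cfsg.Agent.TwoF.SpS.Mod3
import Cfsg.Agent.TwoF.SpA.Gen
import Cfsg.Agent.S2048
import Cfsg.Agent.S2074

/-!
# TwoF / Suz: the odd primes (helper55)
-/

set_option autoImplicit false
set_option maxHeartbeats 400000
set_option maxRecDepth 100000
set_option linter.unusedSectionVars false

namespace Cfsg.Agent.TwoF.SpS

open Cfsg Cfsg.Spor Subgroup Module Cfsg.Agent.TwoF.Gen Cfsg.Agent.TwoF.SpD Cfsg.Agent.TwoF.SpE Cfsg.Agent.TwoF.XE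
open Cfsg.Agent.SporadicRecognition.SuzOrder Cfsg.Agent.SuzThree.Basic Cfsg.Agent.SuzThree.Elts
  Cfsg.Agent.SuzThree.Elementary Cfsg.Agent.SuzThree.NormElts
open Cfsg.Agent.BpSpor.SuzThreeCentral (finSuz)

namespace T3

theorem t25 : ∃ f g y : Suz, T25 f g y := by
  obtain ⟨f, g, y, h1, h2, h3, h4, h5⟩ := w_25
  exact ⟨f, g, y, h1, h2, h3, h4, h5⟩

variable {K : Type} [Group K] [Finite K] {V : Type} [AddCommGroup V] [Module (ZMod 3) V] [Finite V]
  {π : K →* Suz} {σ : Representation (ZMod 3) K V}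

namespace St

variable (H : St π σ)
include H

theorem six' {t : Suz} (ht : t ^ 3 = 1) (h : ∃ c : Suz, (c * el [.d] * c⁻¹ * t) ^ 3 = 1) : Six π σ t := by
  have := finSuz
  obtain ⟨c, h⟩ := h
  obtain ⟨f, g, y, h1⟩ := t25
  obtain ⟨f, g, y, h1⟩ := h1.lift H.surj H.ker H.card (by decide)
  obtain ⟨a, h2⟩ := w_11
  exact H.six ((by decide : 11 ≤ 12).trans (h1.dim H.inj)) ht
    (by rw [show ∀ u : Suz, c * u * c⁻¹ * (c * u * c⁻¹) = c * (u * u) * c⁻¹ from fun u => by group, gen_sq]; group) h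
    ((eb_five (gen_sq .d) h2).conj (isConj_iff.2 ⟨c, rfl⟩).symm)

theorem sixZ {w : Suz} (h : w ∈ zpowers (x .i0) ⊔ zpowers (x .i1)) (h1 : w ≠ 1) : Six π σ w := by
  obtain ⟨i, hi, j, hj, rfl⟩ := exists_pow_of_mem_sup (by decide) c01.eq.symm p0 p1 h
  have m0 := x_mem .i0
  have m1 := x_mem .i1
  have k0 := H.six' p0 w_0
  have k1 := H.six' p1 w_1
  have k2 := H.six' (cube_A0 (mul_mem m0 m1)) w_2
  have k3 := H.six' (cube_A0 (mul_mem m0 (mul_mem m1 m1))) w_3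
  have k4 := k2.sq (cube_A0 (mul_mem m0 m1))
  have k5 := k3.sq (cube_A0 (mul_mem m0 (mul_mem m1 m1)))
  rw [c01.mul_pow] at k4
  rw [← pow_two, (c01.pow_right 2).mul_pow, ← pow_mul, pow_succ _ 3, p1, one_mul] at k5
  rw [← pow_two] at k3
  interval_cases i <;> interval_cases j <;> try simp only [pow_zero, pow_one, mul_one, one_mul] at h1 ⊢
  exacts [absurd rfl h1, k1, k1.sq p1, k0, k2, k3, k0.sq p0, k5, k4]

theorem nd : ¬ 3 ∣ Nat.card π.ker := fun e => absurd (e.trans H.card) (by decide)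

theorem card_map {B : Subgroup K} (hB : IsElementaryAbelian 3 B) : Nat.card (B.map π) = Nat.card B :=
  Nat.card_image_of_injOn (injOn_of_not_dvd π H.nd (elemAb_isPGroup hB))

/-- the preimage of `3 ^ 5` -/
noncomputable def J : Subgroup K := lf H.ker H.card (by decide : Nat.Coprime 3 2) elemAb_A0

theorem mem_J {a : K} : a ∈ H.J ↔ π a ∈ A0 ∧ a ^ 3 = 1 := Iff.rfl

theorem cj_J {n a : K} (hn : π n ∈ NA) (ha : a ∈ H.J) : n * a * n⁻¹ ∈ H.J :=
  ⟨by rw [map_mul, map_mul, map_inv]; exact conj_mem hn ha.1, by rw [conj_pow, ha.2, mul_one, mul_inv_cancel]⟩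

theorem cubJ {B : Subgroup K} (hB : IsElementaryAbelian 3 B) (h : B.map π = A0) (hc : cod σ B ≤ 10) :
    ∃ B, Off 3 σ B ∧ Cub σ B := by
  obtain ⟨a, h1, h2⟩ := exists_five
  obtain ⟨y, h3, h4, h5, -⟩ := exists_eleven
  refine ⟨B, off_of_card hB (r := 5) (by decide) (by rw [← H.card_map hB, h, card_A0]; rfl) hc, by_contra fun e => ?_⟩
  have := layers_irr π H.nd hB h (fun n _ => H.surj n) le_rfl irr (by rw [card_A0]; decide) h1 h2 h3 (s := 11) (n := 5)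
    (by norm_num) (by decide) h4 (gen h5) (fun d h6 h7 => by interval_cases d <;> decide) e
  omega

theorem offJ {B : Subgroup K} (hB : Off 3 σ B) (h : B ≤ H.J) : ∃ B, Off 3 σ B ∧ Cub σ B := by
  obtain ⟨C, h1, h2, h3, -⟩ := lattice (by decide) (lf_elemAb : IsElementaryAbelian 3 H.J) hB h
  have h4 : C.map π = A0 := (irr _ (map_le_iff_le_comap.2 fun a ha => (h1 ha).1) (by
    rintro n hn _ ⟨a, ha, rfl⟩
    obtain ⟨n, rfl⟩ := H.surj n
    exact ⟨_, (mem_normalizer_iff.1 (h3 (mem_normalizer_fintype fun _ => H.cj_J hn)) a).1 ha, by simp⟩)).resolve_left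
      fun e => h2.2.1 (card_eq_one.1 (by rw [← H.card_map h2.1, e, card_bot]))
  obtain ⟨r, -, h5, h6⟩ := h2.exists_card
  rw [← H.card_map h2.1, h4, card_A0] at h5
  obtain rfl : 5 = r := Nat.pow_right_injective (by decide : 2 ≤ 3) h5
  exact H.cubJ h2.1 h4 h6

theorem clo {A D : Subgroup K} (hD : D ≤ A) (hJ : D ≤ H.J) (hN : ∀ a ∈ A, π a ∈ NA) (hc : cod σ A ≤ cod σ D) {n : ℕ}
    (h0 : 0 < n) (hn : cod σ D ≤ 2 * n) (hW : ∀ W ≤ A0, D.map π ≤ W →
      (∀ a ∈ A.map π, ∀ j ∈ A0, a * j * a⁻¹ * j⁻¹ ∈ W) → 3 ^ n ≤ Nat.card W) : ∃ B, Off 3 σ B ∧ Cub σ B := by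
  have hE : IsElementaryAbelian 3 H.J := lf_elemAb
  have h1 : fx σ A = fx σ D := Submodule.eq_of_le_of_finrank_le (fx_anti hD) (by
    have := cod_add (ρ := σ) A
    have := cod_add (ρ := σ) D
    omega)
  have h2 := elemAb_of_le hE (inf_le_left (b := cen σ (fx σ D)))
  have h3 := hW ((H.J ⊓ cen σ (fx σ D)).map π) (map_le_iff_le_comap.2 fun a ha => ha.1.1)
    (map_mono (le_inf hJ (le_cen_iff.2 le_rfl))) (by
      rintro _ ⟨a, ha, rfl⟩ j hj
      obtain ⟨j, rfl, h3⟩ := lift_exists H.surj H.card (by decide : Nat.Coprime 3 2) (cube_A0 hj)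
      have h4 : j ∈ H.J := ⟨hj, h3⟩
      refine ⟨a * j * a⁻¹ * j⁻¹, mem_inf.2 ⟨mul_mem (H.cj_J (hN a ha) h4) (inv_mem h4), mem_cen.2 fun v hv => ?_⟩, by simp⟩
      have h5 : σ j⁻¹ v ∈ fx σ A := h1 ▸ fun d hd => by
        rw [← rho_mul, elemAb_comm hE (hJ hd) (inv_mem h4), rho_mul, hv d hd]
      rw [rho_mul, rho_mul, h5 _ (inv_mem ha), rho_mul, rho_apply_inv, (h1.ge hv) a ha])
  rw [H.card_map h2] at h3
  have h4 : cod σ (H.J ⊓ cen σ (fx σ D)) ≤ cod σ D :=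
    Nat.sub_le_sub_left (Submodule.finrank_mono (le_cen_iff.1 inf_le_right)) _
  refine H.offJ ⟨h2, fun e => ?_, (Nat.pow_le_pow_right (by decide) (h4.trans hn)).trans ?_⟩ inf_le_left
  · rw [e, card_bot] at h3
    exact absurd h3 (Nat.one_lt_pow h0.ne' (by decide)).not_ge
  · rw [mul_comm, pow_mul]
    exact Nat.pow_le_pow_left h3 2

theorem piv {D : Subgroup K} (hJ : D ≤ H.J) (h0 : x .i0 ∈ D.map π) (h1 : x .i1 ∈ D.map π) (hc : cod σ D ≤ 7) :
    ∃ B, Off 3 σ B ∧ Cub σ B := by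
  obtain ⟨z, hz, e0⟩ := h0
  have key : ∀ {n : K} {f g : Ix}, Sp (π n) f g → x f ∈ D.map π → x g ∈ (D.map (MulAut.conj n).toMonoidHom).map π := by
    rintro n f g h ⟨a, ha, e⟩
    have h2 : π n * x f * (π n)⁻¹ ∈ (D.map (MulAut.conj n).toMonoidHom).map π :=
      ⟨_, ⟨a, ha, rfl⟩, by simp [← e]⟩
    rcases h with h | h <;> rw [h] at h2
    exacts [h2, inv_mem_iff.1 h2]
  have ex : ∀ f : Ix, f = .i2 ∨ f = .i3 ∨ f = .i4 → ∃ C ≤ H.J, z ∈ C ∧ x f ∈ C.map π ∧ cod σ C ≤ 7 := fun f hf => by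
    obtain ⟨n, hn, h2, h3⟩ := exists_pair hf
    obtain ⟨n, rfl⟩ := H.surj n
    have h4 : D.map (MulAut.conj n).toMonoidHom ≤ H.J := map_le_iff_le_comap.2 fun a ha => H.cj_J hn (hJ ha)
    obtain ⟨a, h5, h6⟩ := key h2 ⟨z, hz, e0⟩
    exact ⟨_, h4, lift_unique H.ker H.card (by decide : Nat.Coprime 3 2) (h6.trans e0.symm) (h4 h5).2 (hJ hz).2 ▸ h5,
      key h3 h1, (cod_conj n D).trans_le hc⟩
  obtain ⟨C2, a2, b2, c2, d2⟩ := ex .i2 (by decide)
  obtain ⟨C3, a3, b3, c3, d3⟩ := ex .i3 (by decide)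
  obtain ⟨C4, a4, b4, c4, d4⟩ := ex .i4 (by decide)
  have k1 := SpC.cod_sup_pivot (ρ := σ) hz b2
  have k2 := SpC.cod_sup_pivot (ρ := σ) b3 b4
  have k3 := SpC.cod_sup_pivot (ρ := σ) (mem_sup_left hz : z ∈ D ⊔ C2) (mem_sup_left b3 : z ∈ C3 ⊔ C4)
  have k4 := H.six' p0 w_0 z e0 (hJ hz).2
  have k5 : D ⊔ C2 ⊔ (C3 ⊔ C4) ≤ H.J := sup_le (sup_le hJ a2) (sup_le a3 a4)
  refine H.cubJ (elemAb_of_le lf_elemAb k5) (le_antisymm (map_le_iff_le_comap.2 fun a ha => (k5 ha).1) ?_) (by omega)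
  rw [Subgroup.map_sup, Subgroup.map_sup, Subgroup.map_sup]
  exact A0_le' (mem_sup_left (mem_sup_left ⟨z, hz, e0⟩)) (mem_sup_left (mem_sup_left h1)) (mem_sup_left (mem_sup_right c2))
    (mem_sup_right (mem_sup_left c3)) (mem_sup_right (mem_sup_right c4))

theorem aux {A : Subgroup K} (hA : Off 3 σ A) (hK : A.map π ≤ SuzThree.SylowThree.K) (h9 : A0.relIndex (A.map π) ≤ 9) :
    ∃ B, Off 3 σ B ∧ Cub σ B := by
  have := finSuz
  by_cases hc : Cub σ A
  · exact ⟨A, hA, hc⟩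
  by_cases hJ : A ≤ H.J
  · exact H.offJ hA hJ
  obtain ⟨b, hb, h1⟩ := SetLike.not_le_iff_exists.1 hJ
  have hE := elemAb_map hA.1 π
  have hG : ∀ a ∈ A.map π, Good a := fun a ha => ⟨hK ha, hE.2 a ha⟩
  have h2 : π b ∉ A0 := fun e => h1 ⟨e, hA.1.2 b hb⟩
  have h3 := hG _ ⟨b, hb, rfl⟩
  have h4 : A.map π ⊓ A0 ≤ A0 ⊓ centralizer {π b} := fun c hc =>
    ⟨hc.2, mem_centralizer_singleton_iff.2 (elemAb_comm hE hc.1 ⟨b, hb, rfl⟩)⟩
  have h5 := (card_le_of_le h4).trans (h3.card h2)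
  have h6 := relIndex_mul_relIndex ⊥ (A0 ⊓ A.map π) (A.map π) bot_le inf_le_right
  rw [relIndex_bot_left, relIndex_bot_left, inf_relIndex_right, H.card_map hA.1, inf_comm] at h6
  have h7 : (A ⊓ H.J).map π = A.map π ⊓ A0 := le_antisymm
    (le_inf (map_mono inf_le_left) (map_le_iff_le_comap.2 fun a ha => ha.2.1))
    (by rintro _ ⟨⟨a, ha, rfl⟩, h⟩; exact ⟨a, ⟨ha, h, hA.1.2 a ha⟩, rfl⟩)
  obtain ⟨r, -, h8, h10⟩ := hA.exists_card
  have h11 := hA.pow_dvd_of_not_cub hc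
  rw [small_three, h8, Nat.pow_dvd_pow_iff_le_right (by decide)] at h11
  have h12 : 3 ^ r ≤ 3 ^ 4 := (h8 ▸ h6).ge.trans ((Nat.mul_le_mul h5 h9).trans (by decide))
  rw [Nat.pow_le_pow_iff_right (by decide)] at h12
  have hN : ∀ a ∈ A, π a ∈ NA := fun a ha => (hG _ ⟨a, ha, rfl⟩).mem
  obtain rfl | rfl : r = 3 ∨ r = 4 := by omega
  · obtain ⟨⟨w, hw⟩, h13⟩ := ne_bot_iff_exists_ne_one.1 fun e : A ⊓ H.J = ⊥ => by
      rw [← h7, e, Subgroup.map_bot, card_bot] at h6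
      omega
    have h14 : π w ≠ 1 := fun e => h13 (Subtype.ext (lift_unique H.ker H.card (by decide : Nat.Coprime 3 2)
      (e.trans (map_one π).symm) hw.2.2 (one_pow 3)))
    have h15 := H.sixZ ((h3.eq h2).ge (h4 (h7.le ⟨w, hw, rfl⟩))) h14 w rfl hw.2.2
    exact H.clo (zpowers_le.2 hw.1) (zpowers_le.2 hw.2) hN (h10.trans h15) (n := 3) (by decide)
      ((cod_mono (zpowers_le.2 hw.1)).trans h10) fun W k1 _ k2 => h3.big h2 k1 (k2 _ ⟨b, hb, rfl⟩)
  · have h13 : Nat.card ↥(A.map π ⊓ A0) = 9 := by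
      have := h6.ge.trans (Nat.mul_le_mul_left _ h9)
      omega
    by_cases h14 : cod σ (A ⊓ H.J) ≤ 7
    · have h15 := (h3.eq h2).trans (eq_of_le_of_card_ge h4 (h13 ▸ h3.card h2)).symm
      exact H.piv inf_le_right (h7.ge (h15.le (mem_sup_left (mem_zpowers _))))
        (h7.ge (h15.le (mem_sup_right (mem_zpowers _)))) h14
    · exact H.clo inf_le_left inf_le_right hN (by omega) (n := 4) (by decide) ((cod_mono inf_le_left).trans h10)
        fun W k1 k2 k3 => big4 hE hK h13 (by rw [h13] at h6; omega) k1 (h7 ▸ k2) k3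

theorem core {A : Subgroup K} (hA : Off 3 σ A) : ∃ B, Off 3 σ B ∧ Cub σ B := by
  have := finSuz
  obtain ⟨P, h1, h2⟩ := sylow
  obtain ⟨g, hg⟩ := XE.exists_conj_le P.isPGroup' P.not_dvd_index (elemAb_isPGroup (elemAb_map hA.1 π))
  obtain ⟨g, rfl⟩ := H.surj g
  have h3 : (A.map (MulAut.conj g).toMonoidHom).map π ≤ P := by
    rintro _ ⟨_, ⟨a, ha, rfl⟩, rfl⟩
    exact hg ⟨_, ⟨a, ha, rfl⟩, by simp⟩
  exact H.aux (hA.conj g) (h3.trans h1) (h2 _ h3)

end St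

end T3

theorem out_odd {p : ℕ} (hp : p.Prime) (h : p ≠ 2) : ¬ p ∣ Nat.card (Out Suz) := fun e =>
  h ((Nat.prime_dvd_prime_iff_eq hp Nat.prime_two).1 (S2074.result ▸ e))

/-- **the prime three** -/
theorem row3 : Row 3 Suz := by
  have ho := out_odd Nat.prime_three (by decide)
  refine ⟨row88_of_sit fun Y _ _ V _ _ _ K ρ π φ H A hA => ?_, row89_of_not_dvd ho⟩
  have h1 := (zc_of_mul (m := 2) Nat.prime_three S2048.result).ker_π H
  have h2 : T3.St π (ρ.comp K.subtype : Representation (ZMod 3) K V) := by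
    refine ⟨H.surj, H.ker_π.le, h1, H.faithful.comp K.subtype_injective, fun z h2 h3 => ?_⟩
    have := H.normal
    have h4 := H.toFrm.π_eq_one_iff.1 h2
    have h5 : zpowers (z : Y) = centralizer (K : Set Y) := eq_of_le_of_card_ge (zpowers_le.2 h4) (by
      rw [H.toStp.card_centralizer, ← H.ker_π, Nat.card_zpowers, orderOf_coe]
      refine (Nat.le_of_dvd (by decide) h1).trans ?_
      have := orderOf_pos z
      have := mt orderOf_eq_one_iff.1 h3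
      omega)
    rw [fx_comp, MonoidHom.map_zpowers, coe_subtype, h5]
    exact H.irr.fx_eq_bot H.faithful (normalizer_eq_top _).ge fun e => h3 (Subtype.ext (e.le h4))
  obtain ⟨B, h3, h4⟩ := h2.core (SpB.off_comap _ K.subtype_injective
    ((H.toFrm.le_of_not_dvd (elemAb_isPGroup hA.1) ho).trans (range_subtype K).ge) hA)
  exact ⟨_, SpB.off_map _ K.subtype_injective h3, (cub_comp _ _).1 h4⟩

/-- **the prime five** -/
theorem row5 [Fact (Nat.Prime 5)] : Row 5 Suz := by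
  have := finSuz
  have := simple
  obtain ⟨f, g, y, h⟩ := T3.t25
  have hc : center Suz = ⊥ := (normal_of_characteristic _).eq_bot_or_eq_top.resolve_right fun e =>
    absurd (h.fpf 1 (by decide) 0 (by decide) 1 (by decide)
      (by rw [pow_one (_ * _)]; exact mem_center_iff.1 (e.ge (mem_top _)) y)).1 one_ne_zero
  exact ⟨SpC.row88_of_elt (by rw [card_aut hc, card_Suz, S2074.result]; decide) (by rw [card_Suz]; decide) h.fg h.f5 h.g5
    (a := 0) (b := 1) (c := 4) (d := 4) (by rw [pow_zero, pow_one, one_mul, ← h.yf, inv_mul_cancel_right])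
    (by rw [← h.yg', inv_mul_cancel_right]) h.fpf, row89_of_not_dvd (out_odd Nat.prime_five (by decide))⟩

/-- **all odd primes** -/
theorem row_odd (p : ℕ) [hp : Fact p.Prime] (h2 : p ≠ 2) : Row p Suz := by
  have := finSuz
  by_cases h3 : p = 3
  · subst h3
    exact row3
  by_cases h5 : p = 5
  · subst h5
    exact row5
  refine SpA.row_of_card (out_odd hp.out h2) (card_le_of_not_dvd fun h1 => ?_)
  rw [small_of_ne h2 h3, card_Suz, show 448345497600 = 2 ^ 13 * 3 ^ 7 * 5 ^ 2 * 1001 by norm_num] at h1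
  have h4 : ∀ {q : ℕ}, q.Prime → p ≠ q → ∀ n, Nat.Coprime (p ^ (1 + 1)) (q ^ n) := fun hq h n =>
    ((Nat.coprime_primes hp.out hq).2 h).pow _ _
  have h6 := (((h4 Nat.prime_two h2 13).mul_right (h4 Nat.prime_three h3 7)).mul_right
    (h4 (by norm_num) h5 2)).dvd_of_dvd_mul_left h1
  exact hp.out.one_lt.ne' (Nat.isUnit_iff.1 ((by decide +kernel : Squarefree 1001) p (by rwa [← pow_two])))

/-- **the row of `Suz`** from the prime two -/
theorem rows_of (h : Row 2 Suz) (p : ℕ) [Fact p.Prime] : Row p Suz := by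
  by_cases h2 : p = 2
  · subst h2
    exact h
  · exact row_odd p h2

end Cfsg.Agent.TwoF.SpS
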